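import Cfsg.Agent.Lib.ToddCox.G24T.Data0
set_option autoImplicit false
set_option maxRecDepth 100000
namespace Cfsg.Agent.Lib.ToddCox.G24T
def eT_0_2 (j : ℕ) : ℕ := bif Nat.blt j 1 then E_0 else E_1
def eT_3_5 (j : ℕ) : ℕ := bif Nat.blt j 4 then E_3 else E_4
def eT_2_5 (j : ℕ) : ℕ := bif Nat.blt j 3 then E_2 else (eT_3_5 j)
def eT_0_5 (j : ℕ) : ℕ := bif Nat.blt j 2 then (eT_0_2 j) else (eT_2_5 j)
def eT_5_7 (j : ℕ) : ℕ := bif Nat.blt j 6 then E_5 else E_6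
def eT_8_10 (j : ℕ) : ℕ := bif Nat.blt j 9 then E_8 else E_9
def eT_7_10 (j : ℕ) : ℕ := bif Nat.blt j 8 then E_7 else (eT_8_10 j)
def eT_5_10 (j : ℕ) : ℕ := bif Nat.blt j 7 then (eT_5_7 j) else (eT_7_10 j)
def eT_0_10 (j : ℕ) : ℕ := bif Nat.blt j 5 then (eT_0_5 j) else (eT_5_10 j)
def eT_10_12 (j : ℕ) : ℕ := bif Nat.blt j 11 then E_10 else E_11
def eT_13_15 (j : ℕ) : ℕ := bif Nat.blt j 14 then E_13 else E_14
def eT_12_15 (j : ℕ) : ℕ := bif Nat.blt j 13 then E_12 else (eT_13_15 j)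
def eT_10_15 (j : ℕ) : ℕ := bif Nat.blt j 12 then (eT_10_12 j) else (eT_12_15 j)
def eT_16_18 (j : ℕ) : ℕ := bif Nat.blt j 17 then E_16 else E_17
def eT_15_18 (j : ℕ) : ℕ := bif Nat.blt j 16 then E_15 else (eT_16_18 j)
def eT_19_21 (j : ℕ) : ℕ := bif Nat.blt j 20 then E_19 else E_20
def eT_18_21 (j : ℕ) : ℕ := bif Nat.blt j 19 then E_18 else (eT_19_21 j)
def eT_15_21 (j : ℕ) : ℕ := bif Nat.blt j 18 then (eT_15_18 j) else (eT_18_21 j)
def eT_10_21 (j : ℕ) : ℕ := bif Nat.blt j 15 then (eT_10_15 j) else (eT_15_21 j)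
def eT_0_21 (j : ℕ) : ℕ := bif Nat.blt j 10 then (eT_0_10 j) else (eT_10_21 j)
def eT (j : ℕ) : ℕ := (eT_0_21 j)
noncomputable def chunkF (h : ℕ) : ℕ := Nat.rec (motive := fun _ => ℕ) (eT 0) (fun n _ => eT (Nat.succ n)) h
noncomputable def Eo (r : ℕ) : ℕ := Nat.land (Nat.shiftRight (chunkF (Nat.shiftRight r 8)) (Nat.mul (Nat.land r 255) 54)) 18014398509481983
def invT : ℕ := 0xffef7cefae78df6d74cf2c70beeb6caeaa689e69648e28607de75c6da6585d65544d24503ce34c2ca2481c61440c2040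
def inv (y : ℕ) : ℕ := invOf invT y
def Wt_0_2 (j : ℕ) : List ℕ := bif Nat.blt j 1 then [nat_lit 0, nat_lit 5, nat_lit 0, nat_lit 5] else [nat_lit 2, nat_lit 5, nat_lit 2, nat_lit 5]
def Wt_2_4 (j : ℕ) : List ℕ := bif Nat.blt j 3 then [nat_lit 3, nat_lit 5, nat_lit 3, nat_lit 5] else [nat_lit 4, nat_lit 5, nat_lit 4, nat_lit 5]
def Wt_0_4 (j : ℕ) : List ℕ := bif Nat.blt j 2 then (Wt_0_2 j) else (Wt_2_4 j)
def Wt_4_6 (j : ℕ) : List ℕ := bif Nat.blt j 5 then [nat_lit 3, nat_lit 1, nat_lit 3, nat_lit 1] else [nat_lit 4, nat_lit 1, nat_lit 4, nat_lit 1]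
def Wt_7_9 (j : ℕ) : List ℕ := bif Nat.blt j 8 then [nat_lit 3, nat_lit 0, nat_lit 3, nat_lit 0] else [nat_lit 4, nat_lit 0, nat_lit 4, nat_lit 0]
def Wt_6_9 (j : ℕ) : List ℕ := bif Nat.blt j 7 then [nat_lit 5, nat_lit 1, nat_lit 5, nat_lit 1, nat_lit 5, nat_lit 1] else (Wt_7_9 j)
def Wt_4_9 (j : ℕ) : List ℕ := bif Nat.blt j 6 then (Wt_4_6 j) else (Wt_6_9 j)
def Wt_0_9 (j : ℕ) : List ℕ := bif Nat.blt j 4 then (Wt_0_4 j) else (Wt_4_9 j)
def Wt_9_11 (j : ℕ) : List ℕ := bif Nat.blt j 10 then [nat_lit 5, nat_lit 0, nat_lit 5, nat_lit 0] else [nat_lit 1, nat_lit 2, nat_lit 1, nat_lit 2, nat_lit 1, nat_lit 2]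
def Wt_12_14 (j : ℕ) : List ℕ := bif Nat.blt j 13 then [nat_lit 5, nat_lit 2, nat_lit 5, nat_lit 2] else [nat_lit 0, nat_lit 2, nat_lit 0, nat_lit 2]
def Wt_11_14 (j : ℕ) : List ℕ := bif Nat.blt j 12 then [nat_lit 4, nat_lit 2, nat_lit 4, nat_lit 2] else (Wt_12_14 j)
def Wt_9_14 (j : ℕ) : List ℕ := bif Nat.blt j 11 then (Wt_9_11 j) else (Wt_11_14 j)
def Wt_14_16 (j : ℕ) : List ℕ := bif Nat.blt j 15 then [nat_lit 1, nat_lit 3, nat_lit 1, nat_lit 3] else [nat_lit 5, nat_lit 3, nat_lit 5, nat_lit 3]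
def Wt_17_19 (j : ℕ) : List ℕ := bif Nat.blt j 18 then [nat_lit 0, nat_lit 3, nat_lit 0, nat_lit 3] else [nat_lit 1, nat_lit 4, nat_lit 1, nat_lit 4]
def Wt_16_19 (j : ℕ) : List ℕ := bif Nat.blt j 17 then [nat_lit 1, nat_lit 0, nat_lit 1, nat_lit 0, nat_lit 1, nat_lit 0, nat_lit 1, nat_lit 0, nat_lit 1, nat_lit 0] else (Wt_17_19 j)
def Wt_14_19 (j : ℕ) : List ℕ := bif Nat.blt j 16 then (Wt_14_16 j) else (Wt_16_19 j)
def Wt_9_19 (j : ℕ) : List ℕ := bif Nat.blt j 14 then (Wt_9_14 j) else (Wt_14_19 j)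
def Wt_0_19 (j : ℕ) : List ℕ := bif Nat.blt j 9 then (Wt_0_9 j) else (Wt_9_19 j)
def Wt_19_21 (j : ℕ) : List ℕ := bif Nat.blt j 20 then [nat_lit 3, nat_lit 4, nat_lit 3, nat_lit 4, nat_lit 3, nat_lit 4] else [nat_lit 5, nat_lit 4, nat_lit 5, nat_lit 4]
def Wt_22_24 (j : ℕ) : List ℕ := bif Nat.blt j 23 then [nat_lit 5, nat_lit 2, nat_lit 1, nat_lit 0, nat_lit 5, nat_lit 2, nat_lit 1, nat_lit 0, nat_lit 5, nat_lit 2, nat_lit 1, nat_lit 0, nat_lit 5, nat_lit 2, nat_lit 1, nat_lit 0, nat_lit 5, nat_lit 2, nat_lit 1, nat_lit 0] else [nat_lit 1, nat_lit 5, nat_lit 1, nat_lit 5, nat_lit 1, nat_lit 5]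
def Wt_21_24 (j : ℕ) : List ℕ := bif Nat.blt j 22 then [nat_lit 2, nat_lit 1, nat_lit 2, nat_lit 1, nat_lit 2, nat_lit 1] else (Wt_22_24 j)
def Wt_19_24 (j : ℕ) : List ℕ := bif Nat.blt j 21 then (Wt_19_21 j) else (Wt_21_24 j)
def Wt_24_26 (j : ℕ) : List ℕ := bif Nat.blt j 25 then [nat_lit 3, nat_lit 2, nat_lit 3, nat_lit 2, nat_lit 3, nat_lit 2, nat_lit 0, nat_lit 3, nat_lit 2] else [nat_lit 0, nat_lit 4, nat_lit 0, nat_lit 4]
def Wt_27_29 (j : ℕ) : List ℕ := bif Nat.blt j 28 then [nat_lit 0, nat_lit 1, nat_lit 0, nat_lit 1, nat_lit 0, nat_lit 1, nat_lit 0, nat_lit 1, nat_lit 0, nat_lit 1] else [nat_lit 2, nat_lit 0, nat_lit 2, nat_lit 0]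
def Wt_26_29 (j : ℕ) : List ℕ := bif Nat.blt j 27 then [nat_lit 2, nat_lit 4, nat_lit 2, nat_lit 4] else (Wt_27_29 j)
def Wt_24_29 (j : ℕ) : List ℕ := bif Nat.blt j 26 then (Wt_24_26 j) else (Wt_26_29 j)
def Wt_19_29 (j : ℕ) : List ℕ := bif Nat.blt j 24 then (Wt_19_24 j) else (Wt_24_29 j)
def Wt_29_31 (j : ℕ) : List ℕ := bif Nat.blt j 30 then [nat_lit 4, nat_lit 3, nat_lit 4, nat_lit 3, nat_lit 4, nat_lit 3] else [nat_lit 2, nat_lit 3, nat_lit 2, nat_lit 3, nat_lit 2, nat_lit 3, nat_lit 2, nat_lit 0, nat_lit 3]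
def Wt_32_34 (j : ℕ) : List ℕ := bif Nat.blt j 33 then [nat_lit 2, nat_lit 1, nat_lit 2, nat_lit 0, nat_lit 1, nat_lit 2, nat_lit 0, nat_lit 1, nat_lit 0, nat_lit 1, nat_lit 2, nat_lit 1, nat_lit 0, nat_lit 1, nat_lit 0] else [nat_lit 1, nat_lit 0, nat_lit 2, nat_lit 1, nat_lit 2, nat_lit 0, nat_lit 1, nat_lit 2, nat_lit 0, nat_lit 1, nat_lit 0, nat_lit 1, nat_lit 2, nat_lit 1, nat_lit 0]
def Wt_31_34 (j : ℕ) : List ℕ := bif Nat.blt j 32 then [nat_lit 3, nat_lit 2, nat_lit 3, nat_lit 2, nat_lit 3, nat_lit 2, nat_lit 3, nat_lit 2, nat_lit 3, nat_lit 2, nat_lit 3, nat_lit 2, nat_lit 3, nat_lit 2, nat_lit 3, nat_lit 2] else (Wt_32_34 j)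
def Wt_29_34 (j : ℕ) : List ℕ := bif Nat.blt j 31 then (Wt_29_31 j) else (Wt_31_34 j)
def Wt_34_36 (j : ℕ) : List ℕ := bif Nat.blt j 35 then [nat_lit 0, nat_lit 2, nat_lit 1, nat_lit 2, nat_lit 0, nat_lit 1, nat_lit 2, nat_lit 0, nat_lit 1, nat_lit 0, nat_lit 1, nat_lit 2, nat_lit 1, nat_lit 0, nat_lit 1] else [nat_lit 2, nat_lit 5, nat_lit 0, nat_lit 1, nat_lit 2, nat_lit 5, nat_lit 0, nat_lit 1, nat_lit 2, nat_lit 5, nat_lit 0, nat_lit 1, nat_lit 2, nat_lit 5, nat_lit 0, nat_lit 1, nat_lit 2, nat_lit 5, nat_lit 0, nat_lit 1]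
def Wt_37_39 (j : ℕ) : List ℕ := bif Nat.blt j 38 then [nat_lit 63, nat_lit 3, nat_lit 2, nat_lit 3, nat_lit 2, nat_lit 0, nat_lit 3, nat_lit 2, nat_lit 3, nat_lit 2] else [nat_lit 0, nat_lit 0, nat_lit 63]
def Wt_36_39 (j : ℕ) : List ℕ := bif Nat.blt j 37 then [nat_lit 5, nat_lit 0, nat_lit 1, nat_lit 2, nat_lit 5, nat_lit 0, nat_lit 1, nat_lit 2, nat_lit 5, nat_lit 0, nat_lit 1, nat_lit 2, nat_lit 5, nat_lit 0, nat_lit 1, nat_lit 2, nat_lit 5, nat_lit 0, nat_lit 1, nat_lit 2] else (Wt_37_39 j)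
def Wt_34_39 (j : ℕ) : List ℕ := bif Nat.blt j 36 then (Wt_34_36 j) else (Wt_36_39 j)
def Wt_29_39 (j : ℕ) : List ℕ := bif Nat.blt j 34 then (Wt_29_34 j) else (Wt_34_39 j)
def Wt_19_39 (j : ℕ) : List ℕ := bif Nat.blt j 29 then (Wt_19_29 j) else (Wt_29_39 j)
def Wt_0_39 (j : ℕ) : List ℕ := bif Nat.blt j 19 then (Wt_0_19 j) else (Wt_19_39 j)
def Wt_39_41 (j : ℕ) : List ℕ := bif Nat.blt j 40 then [nat_lit 63, nat_lit 2, nat_lit 63, nat_lit 2] else [nat_lit 63, nat_lit 1, nat_lit 63, nat_lit 1]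
def Wt_41_43 (j : ℕ) : List ℕ := bif Nat.blt j 42 then [nat_lit 2, nat_lit 2, nat_lit 63] else [nat_lit 63, nat_lit 0, nat_lit 63, nat_lit 0]
def Wt_39_43 (j : ℕ) : List ℕ := bif Nat.blt j 41 then (Wt_39_41 j) else (Wt_41_43 j)
def Wt_43_45 (j : ℕ) : List ℕ := bif Nat.blt j 44 then [nat_lit 63, nat_lit 3, nat_lit 63, nat_lit 3] else [nat_lit 63, nat_lit 5, nat_lit 63, nat_lit 5]
def Wt_46_48 (j : ℕ) : List ℕ := bif Nat.blt j 47 then [nat_lit 3, nat_lit 3, nat_lit 63] else [nat_lit 5, nat_lit 5, nat_lit 63]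
def Wt_45_48 (j : ℕ) : List ℕ := bif Nat.blt j 46 then [nat_lit 63, nat_lit 4, nat_lit 63, nat_lit 4] else (Wt_46_48 j)
def Wt_43_48 (j : ℕ) : List ℕ := bif Nat.blt j 45 then (Wt_43_45 j) else (Wt_45_48 j)
def Wt_39_48 (j : ℕ) : List ℕ := bif Nat.blt j 43 then (Wt_39_43 j) else (Wt_43_48 j)
def Wt_48_50 (j : ℕ) : List ℕ := bif Nat.blt j 49 then [nat_lit 63, nat_lit 5, nat_lit 63, nat_lit 5, nat_lit 63] else [nat_lit 63, nat_lit 1, nat_lit 63, nat_lit 1, nat_lit 63]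
def Wt_51_53 (j : ℕ) : List ℕ := bif Nat.blt j 52 then [nat_lit 63, nat_lit 2, nat_lit 63, nat_lit 2, nat_lit 63] else [nat_lit 63, nat_lit 63, nat_lit 63]
def Wt_50_53 (j : ℕ) : List ℕ := bif Nat.blt j 51 then [nat_lit 63, nat_lit 63, nat_lit 2, nat_lit 63, nat_lit 2] else (Wt_51_53 j)
def Wt_48_53 (j : ℕ) : List ℕ := bif Nat.blt j 50 then (Wt_48_50 j) else (Wt_50_53 j)
def Wt_53_55 (j : ℕ) : List ℕ := bif Nat.blt j 54 then [nat_lit 63, nat_lit 63, nat_lit 1, nat_lit 63, nat_lit 1] else [nat_lit 1, nat_lit 1, nat_lit 63]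
def Wt_56_58 (j : ℕ) : List ℕ := bif Nat.blt j 57 then [nat_lit 63, nat_lit 3, nat_lit 63, nat_lit 3, nat_lit 63] else [nat_lit 4, nat_lit 4, nat_lit 63]
def Wt_55_58 (j : ℕ) : List ℕ := bif Nat.blt j 56 then [nat_lit 63, nat_lit 4, nat_lit 63, nat_lit 4, nat_lit 63] else (Wt_56_58 j)
def Wt_53_58 (j : ℕ) : List ℕ := bif Nat.blt j 55 then (Wt_53_55 j) else (Wt_55_58 j)
def Wt_48_58 (j : ℕ) : List ℕ := bif Nat.blt j 53 then (Wt_48_53 j) else (Wt_53_58 j)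
def Wt_39_58 (j : ℕ) : List ℕ := bif Nat.blt j 48 then (Wt_39_48 j) else (Wt_48_58 j)
def Wt_58_60 (j : ℕ) : List ℕ := bif Nat.blt j 59 then [nat_lit 0, nat_lit 63, nat_lit 0, nat_lit 63] else [nat_lit 63, nat_lit 0, nat_lit 63, nat_lit 0, nat_lit 63]
def Wt_61_63 (j : ℕ) : List ℕ := bif Nat.blt j 62 then [nat_lit 2, nat_lit 3, nat_lit 2, nat_lit 3, nat_lit 2, nat_lit 3, nat_lit 2, nat_lit 3, nat_lit 2, nat_lit 3, nat_lit 2, nat_lit 3, nat_lit 2, nat_lit 3, nat_lit 2, nat_lit 3] else [nat_lit 1, nat_lit 0, nat_lit 1, nat_lit 0, nat_lit 2, nat_lit 1, nat_lit 2, nat_lit 0, nat_lit 1, nat_lit 2, nat_lit 0, nat_lit 1, nat_lit 0, nat_lit 1, nat_lit 2]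
def Wt_60_63 (j : ℕ) : List ℕ := bif Nat.blt j 61 then [nat_lit 63, nat_lit 63, nat_lit 5, nat_lit 63, nat_lit 5] else (Wt_61_63 j)
def Wt_58_63 (j : ℕ) : List ℕ := bif Nat.blt j 60 then (Wt_58_60 j) else (Wt_60_63 j)
def Wt_63_65 (j : ℕ) : List ℕ := bif Nat.blt j 64 then [nat_lit 63, nat_lit 3, nat_lit 2, nat_lit 3, nat_lit 2, nat_lit 3, nat_lit 2, nat_lit 0, nat_lit 3, nat_lit 2] else [nat_lit 1, nat_lit 0, nat_lit 2, nat_lit 1, nat_lit 2, nat_lit 0, nat_lit 1, nat_lit 0, nat_lit 1, nat_lit 2, nat_lit 1, nat_lit 0, nat_lit 1, nat_lit 0, nat_lit 2]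
def Wt_66_68 (j : ℕ) : List ℕ := bif Nat.blt j 67 then [nat_lit 0, nat_lit 5, nat_lit 2, nat_lit 1, nat_lit 0, nat_lit 5, nat_lit 2, nat_lit 1, nat_lit 0, nat_lit 5, nat_lit 2, nat_lit 1, nat_lit 0, nat_lit 5, nat_lit 2, nat_lit 1, nat_lit 0, nat_lit 5, nat_lit 2, nat_lit 1] else [nat_lit 2, nat_lit 0, nat_lit 1, nat_lit 2, nat_lit 0, nat_lit 1, nat_lit 0, nat_lit 1, nat_lit 2, nat_lit 1, nat_lit 0, nat_lit 1, nat_lit 0, nat_lit 2, nat_lit 1]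
def Wt_65_68 (j : ℕ) : List ℕ := bif Nat.blt j 66 then [nat_lit 4, nat_lit 1, nat_lit 2, nat_lit 3, nat_lit 2, nat_lit 3, nat_lit 1, nat_lit 2, nat_lit 3, nat_lit 2, nat_lit 3, nat_lit 1, nat_lit 2, nat_lit 3, nat_lit 2, nat_lit 3, nat_lit 1, nat_lit 2, nat_lit 3, nat_lit 2, nat_lit 3, nat_lit 1, nat_lit 2, nat_lit 3, nat_lit 2, nat_lit 3, nat_lit 4, nat_lit 1, nat_lit 2, nat_lit 3, nat_lit 2, nat_lit 3, nat_lit 1, nat_lit 2, nat_lit 3, nat_lit 2, nat_lit 3, nat_lit 1, nat_lit 2, nat_lit 3, nat_lit 2, nat_lit 3, nat_lit 1, nat_lit 2, nat_lit 3, nat_lit 2, nat_lit 3, nat_lit 1, nat_lit 2, nat_lit 3, nat_lit 2, nat_lit 3, nat_lit 4, nat_lit 1, nat_lit 2, nat_lit 3, nat_lit 2, nat_lit 3, nat_lit 1, nat_lit 2, nat_lit 3, nat_lit 2, nat_lit 3, nat_lit 1, nat_lit 2, nat_lit 3, nat_lit 2, nat_lit 3, nat_lit 1, nat_lit 2, nat_lit 3, nat_lit 2, nat_lit 3, nat_lit 1, nat_lit 2, nat_lit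 3, nat_lit 2, nat_lit 3] else (Wt_66_68 j)
def Wt_63_68 (j : ℕ) : List ℕ := bif Nat.blt j 65 then (Wt_63_65 j) else (Wt_65_68 j)
def Wt_58_68 (j : ℕ) : List ℕ := bif Nat.blt j 63 then (Wt_58_63 j) else (Wt_63_68 j)
def Wt_68_70 (j : ℕ) : List ℕ := bif Nat.blt j 69 then [nat_lit 63, nat_lit 0, nat_lit 1, nat_lit 2, nat_lit 5, nat_lit 0, nat_lit 1, nat_lit 2, nat_lit 5, nat_lit 0, nat_lit 1, nat_lit 2, nat_lit 5, nat_lit 0, nat_lit 1, nat_lit 2, nat_lit 5, nat_lit 0, nat_lit 1, nat_lit 2, nat_lit 5] else [nat_lit 2, nat_lit 3, nat_lit 2, nat_lit 0, nat_lit 3, nat_lit 2, nat_lit 3, nat_lit 2, nat_lit 3]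
def Wt_71_73 (j : ℕ) : List ℕ := bif Nat.blt j 72 then [nat_lit 1, nat_lit 63, nat_lit 1, nat_lit 63] else [nat_lit 2, nat_lit 63, nat_lit 2, nat_lit 63]
def Wt_70_73 (j : ℕ) : List ℕ := bif Nat.blt j 71 then [nat_lit 63, nat_lit 2, nat_lit 3, nat_lit 2, nat_lit 3, nat_lit 2, nat_lit 3, nat_lit 2, nat_lit 0, nat_lit 3] else (Wt_71_73 j)
def Wt_68_73 (j : ℕ) : List ℕ := bif Nat.blt j 70 then (Wt_68_70 j) else (Wt_70_73 j)
def Wt_73_75 (j : ℕ) : List ℕ := bif Nat.blt j 74 then [nat_lit 2, nat_lit 1, nat_lit 3, nat_lit 2, nat_lit 3, nat_lit 2, nat_lit 1, nat_lit 3, nat_lit 2, nat_lit 3, nat_lit 2, nat_lit 1, nat_lit 3, nat_lit 2, nat_lit 3, nat_lit 2, nat_lit 1, nat_lit 3, nat_lit 2, nat_lit 3, nat_lit 2, nat_lit 1, nat_lit 4, nat_lit 3, nat_lit 2, nat_lit 3, nat_lit 2, nat_lit 1, nat_lit 3, nat_lit 2, nat_lit 3, nat_lit 2, nat_lit 1, nat_lit 3, nat_lit 2, nat_lit 3, nat_lit 2,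 nat_lit 1, nat_lit 3, nat_lit 2, nat_lit 3, nat_lit 2, nat_lit 1, nat_lit 3, nat_lit 2, nat_lit 3, nat_lit 2, nat_lit 1, nat_lit 4, nat_lit 3, nat_lit 2, nat_lit 3, nat_lit 2, nat_lit 1, nat_lit 3, nat_lit 2, nat_lit 3, nat_lit 2, nat_lit 1, nat_lit 3, nat_lit 2, nat_lit 3, nat_lit 2, nat_lit 1, nat_lit 3, nat_lit 2, nat_lit 3, nat_lit 2, nat_lit 1, nat_lit 3, nat_lit 2, nat_lit 3, nat_lit 2, nat_lit 1, nat_lit 4, nat_lit 3, nat_lit 2, nat_lit 3] else [nat_lit 63, nat_lit 2, nat_lit 1, nat_lit 0, nat_lit 5, nat_lit 2, nat_lit 1, nat_lit 0, nat_lit 5, nat_lit 2, nat_lit 1, nat_lit 0, nat_lit 5, nat_lit 2, nat_lit 1, nat_lit 0, nat_lit 5, nat_lit 2, nat_lit 1, nat_lit 0, nat_lit 5]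
def Wt_76_78 (j : ℕ) : List ℕ := bif Nat.blt j 77 then [nat_lit 1, nat_lit 2, nat_lit 3, nat_lit 2, nat_lit 3, nat_lit 1, nat_lit 2, nat_lit 3, nat_lit 2, nat_lit 3, nat_lit 4, nat_lit 1, nat_lit 2, nat_lit 3, nat_lit 2, nat_lit 3, nat_lit 1, nat_lit 2, nat_lit 3, nat_lit 2, nat_lit 3, nat_lit 1, nat_lit 2, nat_lit 3, nat_lit 2, nat_lit 3, nat_lit 1, nat_lit 2, nat_lit 3, nat_lit 2, nat_lit 3, nat_lit 1, nat_lit 2, nat_lit 3, nat_lit 2, nat_lit 3, nat_lit 4, nat_lit 1, nat_lit 2, nat_lit 3, nat_lit 2, nat_lit 3, nat_lit 1, nat_lit 2, nat_lit 3, nat_lit 2, nat_lit 3, nat_lit 1, nat_lit 2, nat_lit 3, nat_lit 2, nat_lit 3, nat_lit 1, nat_lit 2, nat_lit 3, nat_lit 2, nat_lit 3, nat_lit 1, nat_lit 2, nat_lit 3, nat_lit 2, nat_lit 3, nat_lit 4, nat_lit 1, nat_lit 2, nat_lit 3, nat_lit 2, nat_lit 3, nat_lit 1, nat_lit 2, nat_lit 3, nat_lit 2, nat_lit 3, nat_lit 1, nat_lit 2, nat_lit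 3, nat_lit 2, nat_lit 3] else [nat_lit 3, nat_lit 2, nat_lit 3, nat_lit 1, nat_lit 2, nat_lit 3, nat_lit 2, nat_lit 3, nat_lit 1, nat_lit 2, nat_lit 3, nat_lit 2, nat_lit 3, nat_lit 1, nat_lit 2, nat_lit 3, nat_lit 2, nat_lit 3, nat_lit 1, nat_lit 2, nat_lit 3, nat_lit 2, nat_lit 3, nat_lit 4, nat_lit 1, nat_lit 2, nat_lit 3, nat_lit 2, nat_lit 3, nat_lit 1, nat_lit 2, nat_lit 3, nat_lit 2, nat_lit 3, nat_lit 1, nat_lit 2, nat_lit 3, nat_lit 2, nat_lit 3, nat_lit 1, nat_lit 2, nat_lit 3, nat_lit 2, nat_lit 3, nat_lit 1, nat_lit 2, nat_lit 3, nat_lit 2, nat_lit 3, nat_lit 4, nat_lit 1, nat_lit 2, nat_lit 3, nat_lit 2, nat_lit 3, nat_lit 1, nat_lit 2, nat_lit 3, nat_lit 2, nat_lit 3, nat_lit 1, nat_lit 2, nat_lit 3, nat_lit 2, nat_lit 3, nat_lit 1, nat_lit 2, nat_lit 3, nat_lit 2, nat_lit 3, nat_lit 1, nat_lit 2, nat_lit 3, nat_lit 2, nat_lit 3, nat_lit 4, nat_lit 1, nat_lit 2]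
def Wt_75_78 (j : ℕ) : List ℕ := bif Nat.blt j 76 then [nat_lit 1, nat_lit 3, nat_lit 2, nat_lit 3, nat_lit 2, nat_lit 1, nat_lit 3, nat_lit 2, nat_lit 3, nat_lit 2, nat_lit 1, nat_lit 4, nat_lit 3, nat_lit 2, nat_lit 3, nat_lit 2, nat_lit 1, nat_lit 3, nat_lit 2, nat_lit 3, nat_lit 2, nat_lit 1, nat_lit 3, nat_lit 2, nat_lit 3, nat_lit 2, nat_lit 1, nat_lit 3, nat_lit 2, nat_lit 3, nat_lit 2, nat_lit 1, nat_lit 3, nat_lit 2, nat_lit 3, nat_lit 2, nat_lit 1, nat_lit 4, nat_lit 3, nat_lit 2, nat_lit 3, nat_lit 2, nat_lit 1, nat_lit 3, nat_lit 2, nat_lit 3, nat_lit 2, nat_lit 1, nat_lit 3, nat_lit 2, nat_lit 3, nat_lit 2, nat_lit 1, nat_lit 3, nat_lit 2, nat_lit 3, nat_lit 2, nat_lit 1, nat_lit 3, nat_lit 2, nat_lit 3, nat_lit 2, nat_lit 1, nat_lit 4, nat_lit 3, nat_lit 2, nat_lit 3, nat_lit 2, nat_lit 1, nat_lit 3, nat_lit 2, nat_lit 3, nat_lit 2, nat_lit 1, nat_lit 3, nat_lit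 2, nat_lit 3, nat_lit 2] else (Wt_76_78 j)
def Wt_73_78 (j : ℕ) : List ℕ := bif Nat.blt j 75 then (Wt_73_75 j) else (Wt_75_78 j)
def Wt_68_78 (j : ℕ) : List ℕ := bif Nat.blt j 73 then (Wt_68_73 j) else (Wt_73_78 j)
def Wt_58_78 (j : ℕ) : List ℕ := bif Nat.blt j 68 then (Wt_58_68 j) else (Wt_68_78 j)
def Wt_39_78 (j : ℕ) : List ℕ := bif Nat.blt j 58 then (Wt_39_58 j) else (Wt_58_78 j)
def Wt_0_78 (j : ℕ) : List ℕ := bif Nat.blt j 39 then (Wt_0_39 j) else (Wt_39_78 j)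
def Wt (j : ℕ) : List ℕ := (Wt_0_78 j)
def W (j : ℕ) : List ℕ := bif Nat.blt j 78 then Wt j else []
theorem W_ge (j : ℕ) (h : 78 ≤ j) : W j = [] := by
  unfold W
  rw [blt_false_of_le h]
  rfl
def Hl : List ℕ := [nat_lit 0, nat_lit 1, nat_lit 2, nat_lit 3, nat_lit 4]
def isH (y : ℕ) : Bool := List.elem y Hl
def Rb : List (List ℕ) := [[nat_lit 0, nat_lit 0],
  [nat_lit 1, nat_lit 1],
  [nat_lit 1, nat_lit 0, nat_lit 1, nat_lit 0, nat_lit 1, nat_lit 0, nat_lit 1, nat_lit 0, nat_lit 1, nat_lit 0],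
  [nat_lit 2, nat_lit 2],
  [nat_lit 2, nat_lit 0, nat_lit 2, nat_lit 0],
  [nat_lit 2, nat_lit 1, nat_lit 2, nat_lit 1, nat_lit 2, nat_lit 1],
  [nat_lit 2, nat_lit 1, nat_lit 0, nat_lit 1, nat_lit 0, nat_lit 2, nat_lit 1, nat_lit 2, nat_lit 0, nat_lit 1, nat_lit 2, nat_lit 0, nat_lit 1, nat_lit 0, nat_lit 1],
  [nat_lit 3, nat_lit 3],
  [nat_lit 3, nat_lit 0, nat_lit 3, nat_lit 0],
  [nat_lit 3, nat_lit 1, nat_lit 3, nat_lit 1],
  [nat_lit 3, nat_lit 2, nat_lit 3, nat_lit 2, nat_lit 3, nat_lit 2, nat_lit 3, nat_lit 2, nat_lit 3, nat_lit 2, nat_lit 3, nat_lit 2, nat_lit 3, nat_lit 2, nat_lit 3, nat_lit 2],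
  [nat_lit 3, nat_lit 2, nat_lit 3, nat_lit 2, nat_lit 3, nat_lit 2, nat_lit 3, nat_lit 2, nat_lit 0],
  [nat_lit 4, nat_lit 4],
  [nat_lit 4, nat_lit 0, nat_lit 4, nat_lit 0],
  [nat_lit 4, nat_lit 1, nat_lit 4, nat_lit 1],
  [nat_lit 4, nat_lit 2, nat_lit 4, nat_lit 2],
  [nat_lit 4, nat_lit 3, nat_lit 4, nat_lit 3, nat_lit 4, nat_lit 3],
  [nat_lit 4, nat_lit 3, nat_lit 2, nat_lit 3, nat_lit 2, nat_lit 1, nat_lit 3, nat_lit 2, nat_lit 3, nat_lit 2, nat_lit 1, nat_lit 3, nat_lit 2, nat_lit 3, nat_lit 2, nat_lit 1, nat_lit 3, nat_lit 2, nat_lit 3, nat_lit 2, nat_lit 1, nat_lit 3, nat_lit 2, nat_lit 3, nat_lit 2, nat_lit 1, nat_lit 4, nat_lit 3, nat_lit 2, nat_lit 3, nat_lit 2, nat_lit 1, nat_lit 3, nat_lit 2, nat_lit 3, nat_lit 2, nat_lit 1, nat_lit 3, nat_lit 2, nat_lit 3, nat_lit 2, nat_lit 1, nat_lit 3, nat_lit 2, nat_lit 3, nat_lit 2, nat_lit 1, nat_lit 3, nat_lit 2, nat_lit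 3, nat_lit 2, nat_lit 1, nat_lit 4, nat_lit 3, nat_lit 2, nat_lit 3, nat_lit 2, nat_lit 1, nat_lit 3, nat_lit 2, nat_lit 3, nat_lit 2, nat_lit 1, nat_lit 3, nat_lit 2, nat_lit 3, nat_lit 2, nat_lit 1, nat_lit 3, nat_lit 2, nat_lit 3, nat_lit 2, nat_lit 1, nat_lit 3, nat_lit 2, nat_lit 3, nat_lit 2, nat_lit 1],
  [nat_lit 5, nat_lit 5],
  [nat_lit 5, nat_lit 0, nat_lit 5, nat_lit 0],
  [nat_lit 5, nat_lit 1, nat_lit 5, nat_lit 1, nat_lit 5, nat_lit 1],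
  [nat_lit 5, nat_lit 2, nat_lit 5, nat_lit 2],
  [nat_lit 5, nat_lit 3, nat_lit 5, nat_lit 3],
  [nat_lit 5, nat_lit 4, nat_lit 5, nat_lit 4],
  [nat_lit 5, nat_lit 2, nat_lit 1, nat_lit 0, nat_lit 5, nat_lit 2, nat_lit 1, nat_lit 0, nat_lit 5, nat_lit 2, nat_lit 1, nat_lit 0, nat_lit 5, nat_lit 2, nat_lit 1, nat_lit 0, nat_lit 5, nat_lit 2, nat_lit 1, nat_lit 0],
  []]
def spT_0_2 (j : ℕ) : ℕ := bif Nat.blt j 1 then nat_lit 0x40160000400c00000014000000240000000000000000000000180000000e0000001800000002000000020000003200000006000000060000000200000024000000240000000e00000018000000240000000e00000000000000060000000200000006000000000000801600000031000060310000a00c0000800c0000c00c00002014000040160000202000002008000000040000001e0000001a0000601600000028000020300000200a0000202e000000200000001c00000010000020040000202c00000012000000080000202a0000201e0000000a000020260000201a00002010000020280000201c000020120000002e0000002c0000002a00000026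 else nat_lit 0x60230002002300020022000020300000a0220000000600000002000020160000c016000000310001000c00000030000000230000c00d
def spT (j : ℕ) : ℕ := (spT_0_2 j)
def sp (j : ℕ) : ℕ := Nat.land (Nat.shiftRight (spT (Nat.shiftRight j 6)) (Nat.mul (Nat.land j 63) 32)) 4294967295
theorem Eo_lt (r : ℕ) : Eo r < 18014398509481984 := land54_lt _
def cT_0_2 (j : ℕ) : ℕ := bif Nat.blt j 1 then nat_lit 0xeb0000e80000e70000e40000d40000d20000cb0000c80000c20000b90000b80000b70000b60000b50000b20000b10000ab0000aa0000a90000a70000a60000a10000a000009f00009e00009c00009b00009a00009900009800009700009500009400008a00008800008400008100007d00007700007600007500007300007200006d00006c00006b00006a00006900006700006600006500006400006300006200006100006000005f00005c00005800005600005400005200004f00004c00004a00004900004800004700004600004400004300004200004100004000003f00003e00003d00003c00003b00003a00003900003500003400003300003200003000002f00002e00002d00002c00002b00002a00002900002800002700002600002500002400002300002000001f00001e00001c00001b00001a00001900001800001700001600001500001400001200001100000f00000e00000d00000c00000b000009000008000007000006000005000004000003000002000001000000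 else nat_lit 0x1d90001d80001d70001d60001d50001d40001d30001d20001d10001d00001cf0001ce0001cd0001cc0001cb0001ca0001c90001c80001c70001c60001c50001c40001c30001c20001c10001c00001bf0001be0001bd0001bc0001bb0001ba0001b90001b40001b30001a70001a40001a30001a20001a100019d00019c00019900019800018d00018c00018b00018a00018800018700018600018500018400018300018200018100018000017c00017b00017a00017900017800017700017000016f00016e00016d00016c00016b00016a00016900016800016500016400016300016100016000015f00015e00015d00015c00015b00015a00015900015700015600015300015200015100014d00014c00014b00014500013500013400013200013100012a00012800012200011a00011900011800011700011600011500011400011300010e00010d00010c0001050001040001030001020001010000fd0000fc0000f70000f60000f50000f40000f20000f10000ef0000ee0000ed0000ec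
def cT_2_4 (j : ℕ) : ℕ := bif Nat.blt j 3 then nat_lit 0x2da0002d20002d10002cf0002cc0002ca0002c10002b90002b80002b70002b60002b00002ae0002ad0002ab0002aa0002a90002a60002a000029700029600029400028900028700028300028200028000027f00027d00027c00027b00027700027300027200026d00026900026800026600026500026400026200025c00025a00025900025700025600025400025300025100025000024d00024a00024900024800024700024600024500024400024300024200024100024000023f00023a00023900023800023700023600023500023400023300023200022b00022a00022900022800022700022600022500022400022000021f00021e00021d00021c00021a00021800021700021600021500021400021200021100020d0002090002080002070001ff0001fd0001fc0001fa0001f80001f70001f60001f50001f40001f30001f20001f10001f00001ef0001ee0001ed0001eb0001ea0001e90001e80001e70001e60001e40001e10001e00001df0001de0001dd0001dc0001db0001da else nat_lit 0x33e00033d00033c00033b00033a00033900033800033700033600033500033400033300033200033100033000032f00031800031600031100031000030f00030a0003090003030002fc0002f90002f80002f50002f30002e90002e60002e2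
def cT_0_4 (j : ℕ) : ℕ := bif Nat.blt j 2 then (cT_0_2 j) else (cT_2_4 j)
def cT (j : ℕ) : ℕ := (cT_0_4 j)
noncomputable def cChunk (h : ℕ) : ℕ := Nat.rec (motive := fun _ => ℕ) (cT 0) (fun n _ => cT (Nat.succ n)) h
noncomputable def cF (i : ℕ) : ℕ := Nat.land (Nat.shiftRight (cChunk (Nat.shiftRight i 7)) (Nat.mul (Nat.land i 127) 24)) 16777215
theorem cF_lt (i : ℕ) : cF i < 16777216 := land24_lt _
theorem cF_zero : cF 0 = 0 := by decide +kernel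
def nDef : ℕ := 830
def nEv : ℕ := 2598
def nW : ℕ := 78
def N : ℕ := 416
def ys : List ℕ := [nat_lit 0, nat_lit 1, nat_lit 2, nat_lit 3, nat_lit 4, nat_lit 5]
end Cfsg.Agent.Lib.ToddCox.G24T
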